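import Cfsg.Agent.Lib.Helper11.P6a.D0
import Cfsg.Agent.Lib.Helper11.Words

set_option autoImplicit false
set_option maxRecDepth 100000

namespace Cfsg.Agent.Lib.Helper11.P6a

noncomputable def fc1_0 (i : ℕ) : ℕ := (Bool.rec (Bool.rec (Bool.rec (fc0_0 i) (fc0_1 i) (Nat.ble 16 i)) (Bool.rec (fc0_2 i) (fc0_3 i) (Nat.ble 48 i)) (Nat.ble 32 i)) (Bool.rec (Bool.rec (fc0_4 i) (fc0_5 i) (Nat.ble 80 i)) (Bool.rec (fc0_6 i) (Bool.rec (fc0_7 i) (fc0_8 i) (Nat.ble 128 i)) (Nat.ble 112 i)) (Nat.ble 96 i)) (Nat.ble 64 i))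
noncomputable def fc (i : ℕ) : ℕ := fc1_0 i
noncomputable def sc1_0 (i : ℕ) : ℕ := (Bool.rec (Bool.rec (Bool.rec (sc0_0 i) (sc0_1 i) (Nat.ble 16 i)) (Bool.rec (sc0_2 i) (sc0_3 i) (Nat.ble 48 i)) (Nat.ble 32 i)) (Bool.rec (Bool.rec (sc0_4 i) (sc0_5 i) (Nat.ble 80 i)) (Bool.rec (sc0_6 i) (Bool.rec (sc0_7 i) (sc0_8 i) (Nat.ble 128 i)) (Nat.ble 112 i)) (Nat.ble 96 i)) (Nat.ble 64 i))
noncomputable def sc (i : ℕ) : ℕ := sc1_0 i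
noncomputable def nc (i : ℕ) : ℕ := nc0_0 i
noncomputable def cc1_0 (i : ℕ) : ℕ := (Bool.rec (Bool.rec (Bool.rec (cc0_0 i) (cc0_1 i) (Nat.ble 16 i)) (Bool.rec (cc0_2 i) (Bool.rec (cc0_3 i) (cc0_4 i) (Nat.ble 64 i)) (Nat.ble 48 i)) (Nat.ble 32 i)) (Bool.rec (Bool.rec (cc0_5 i) (Bool.rec (cc0_6 i) (cc0_7 i) (Nat.ble 112 i)) (Nat.ble 96 i)) (Bool.rec (cc0_8 i) (Bool.rec (cc0_9 i) (cc0_10 i) (Nat.ble 160 i)) (Nat.ble 144 i)) (Nat.ble 128 i)) (Nat.ble 80 i))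
noncomputable def cc (i : ℕ) : ℕ := cc1_0 i

noncomputable def INV : ℕ := 6614517792
def isH (l : ℕ) : Bool := decide (l ∈ [1, 3, 4, 5, 6])
def gens : List ℕ := [1, 2, 3, 4, 5, 6]
def rt : RT := (.node 9 (.node 5 (.node 3 (.node 2 (.node 1 (.leaf 17 0 [2, 5, 2, 5]) (.leaf 23 0 [3, 5, 3, 5])) (.leaf 11 0 [1, 5, 1, 5])) (.node 4 (.leaf 10 0 [1, 4, 1, 4]) (.leaf 16 0 [2, 4, 2, 4]))) (.node 7 (.node 6 (.leaf 30 0 [4, 6, 4, 6]) (.leaf 18 0 [2, 6, 2, 6])) (.node 8 (.leaf 24 0 [3, 6, 3, 6]) (.leaf 12 0 [1, 6, 1, 6])))) (.node 16 (.node 13 (.node 11 (.node 10 (.leaf 30 1 [6, 4, 6, 4]) (.leaf 9 0 [1, 3, 1, 3])) (.node 12 (.leaf 29 1 [5, 4, 5, 4, 5, 4]) (.leaf 36 1 [6, 5, 6, 5, 6, 5]))) (.node 15 (.node 14 (.leaf 29 0 [4, 5, 4, 5, 4, 5]) (.leaf 36 0 [5, 6, 5, 6, 5, 6]))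 (.leaf 24 1 [6, 3, 6, 3]))) (.node 22 (.node 19 (.node 18 (.node 17 (.leaf 23 1 [5, 3, 5, 3]) (.leaf 15 1 [3, 2, 3, 2, 3, 2])) (.leaf 18 1 [6, 2, 6, 2])) (.node 21 (.node 20 (.leaf 43 4 [4, 3, 4, 3, 4, 3, 1, 6, 4, 3]) (.leaf 17 1 [5, 2, 5, 2])) (.leaf 43 3 [3, 4, 3, 4, 3, 4, 3, 1, 6, 4]))) (.node 27 (.node 25 (.node 24 (.node 23 (.leaf 9 1 [3, 1, 3, 1]) (.leaf 16 1 [4, 2, 4, 2])) (.leaf 8 1 [2, 1, 2, 1, 2, 1])) (.node 26 (.leaf 15 0 [2, 3, 2, 3, 2, 3]) (.leaf 11 1 [5, 1, 5, 1]))) (.node 30 (.node 29 (.node 28 (.leaf 12 1 [6, 1, 6, 1]) (.leaf 8 0 [1, 2, 1, 2, 1, 2])) (.leaf 43 5 [3, 4, 3, 4, 3, 1, 6, 4, 3, 4])) (.node 32 (.node 31 (.leaf 10 1 [4, 1, 4, 1]) (.leaf 43 1 [6, 4, 3, 4, 3, 4, 3, 4, 3, 1])) (.node 35 (.node 33 (.leaf 43 2 [4, 3, 4, 3, 4, 3, 4, 3, 1,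 6]) (.node 34 (.leaf 5 0 [5, 5]) (.leaf 4 0 [4, 4]))) (.node 39 (.node 37 (.node 36 (.leaf 43 7 [3, 4, 3, 1, 6, 4, 3, 4, 3, 4]) (.leaf 2 0 [2, 2])) (.node 38 (.leaf 43 6 [4, 3, 4, 3, 1, 6, 4, 3, 4, 3]) (.leaf 43 9 [3, 1, 6, 4, 3, 4, 3, 4, 3, 4]))) (.node 42 (.node 41 (.node 40 (.leaf 43 0 [1, 6, 4, 3, 4, 3, 4, 3, 4, 3]) (.leaf 43 8 [4, 3, 1, 6, 4, 3, 4, 3, 4, 3])) (.leaf 6 0 [6, 6])) (.node 44 (.node 43 (.leaf 0 0 []) (.leaf 1 0 [1, 1])) (.leaf 3 0 [3, 3])))))))))))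


end Cfsg.Agent.Lib.Helper11.P6a
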